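import Cfsg.Agent.H844.Ore.BInv_m3
import Cfsg.Agent.H961.SepFi23
import Cfsg.Agent.H820.ElB
import Cfsg.Agent.H569.BFive
import Cfsg.Agent.H845.HNNineteen
import Cfsg.Agent.H149.Sp.Baby
import Cfsg.Agent.H94.Sp.Base_m3
import Cfsg.Agent.H214.CosetBurn
import Cfsg.Agent.FastGrp
import Cfsg.Agent.Prune
set_option linter.all false

section
prune_inst 0x7f00000000000000000000000000000000000000000000000000000000000000000000000000000000000000000000000000000000000000000000000000000000000000000000000000000000000000003fffffffffffffffffffffffffffbeffbdffffffff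

-- part: H630/NHBabyB
section
set_option linter.all false
open scoped Cfsg.Agent.FastGrp

/-!
# Row of the nilpotent Hall cluster: Frobenius relations in the Baby Monster (helper630)

`11 : 5` and `13 : 3` in `Fi23`, `19 : 9` in `HN`.
-/

set_option autoImplicit false
set_option maxRecDepth 100000
open Subgroup

namespace Cfsg.Agent.H630.Baby

open Cfsg Cfsg.Agent.H630.NH Cfsg.Agent.H241.NH

theorem frk_5_11_fi23 : Frk 5 11 Spor.Fi23 := by
  have hfin : Finite Spor.Fi23 := H961.SepFi23.fin
  have hF : Fact (Nat.Prime 11) := ⟨by norm_num⟩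
  obtain ⟨x, hx⟩ := exists_prime_orderOf_dvd_card' (G := Spor.Fi23) 11 (by rw [S1697.result.2]; norm_num)
  obtain ⟨h1, h2⟩ := H961.SepFi23.data11 (R := zpowers x) (by rw [Nat.card_zpowers, hx])
  refine frk_of_cards (by norm_num) (by norm_num) hx rfl h2 ?_
  exact (Nat.mul_dvd_mul_left 5 h1).trans (by norm_num)

theorem frk_3_13_fi23 : Frk 3 13 Spor.Fi23 := by
  have hfin : Finite Spor.Fi23 := H961.SepFi23.fin
  have hF : Fact (Nat.Prime 13) := ⟨by norm_num⟩
  obtain ⟨x, hx⟩ := exists_prime_orderOf_dvd_card' (G := Spor.Fi23) 13 (by rw [S1697.result.2]; norm_num)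
  obtain ⟨h1, h2⟩ := H961.SepFi23.data13 (R := zpowers x) (by rw [Nat.card_zpowers, hx])
  exact frk_of_cards (by norm_num) (by norm_num) hx h1 h2 (by norm_num)

theorem frk_3_19_hn : Frk 3 19 Spor.HN := by
  obtain ⟨x, hx, hc⟩ := H845.HNNineteen.hn_nineteen
  have hN : Nat.card Spor.HN = 273030912000000 := S1701.result.2
  have hfin : Finite Spor.HN := Nat.finite_of_card_ne_zero (by rw [hN]; norm_num)
  exact frk_of_sylow (by norm_num) (by norm_num) (by rw [hN]; norm_num) hx hc (by rw [hN]; norm_num)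

theorem frk_5_11 {G : Type*} [Group G] (h : Spor.IsoB G) : Frk 5 11 G := by
  obtain ⟨e⟩ := h
  obtain ⟨f, hf⟩ := H820.ElB.exists_hom
  exact (frk_5_11_fi23.map f hf).congr e.symm

theorem frk_3_13 {G : Type*} [Group G] (h : Spor.IsoB G) : Frk 3 13 G := by
  obtain ⟨e⟩ := h
  obtain ⟨f, hf⟩ := H820.ElB.exists_hom
  exact (frk_3_13_fi23.map f hf).congr e.symm

theorem frk_3_19 {G : Type*} [Group G] (h : Spor.IsoB G) : Frk 3 19 G := by
  obtain ⟨e⟩ := h
  obtain ⟨f, hf⟩ := H569.BFive.exists_hom
  exact (frk_3_19_hn.map f hf).congr e.symm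

end Cfsg.Agent.H630.Baby
end

-- part: H630/NHBaby
section
set_option linter.all false
open scoped Cfsg.Agent.FastGrp

/-!
# Row of the nilpotent Hall cluster: the Baby Monster (helper630)
-/

set_option autoImplicit false
set_option maxRecDepth 100000
open Subgroup

namespace Cfsg.Agent.H630.Baby

open Cfsg Cfsg.Agent.H630.NH Cfsg.Agent.H241.NH

universe u

section

variable {G : Type u} [Group G] [Finite G]

/-- the pairs `(3, q)`, `q ≥ 17` -/
theorem nc_3_big (h : Spor.IsoB G) {q : ℕ} (hq : q ∈ [17, 19, 23, 31, 47]) : NC 3 q G := by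
  have hN := NotCT.Orders.b h
  have h3 : Fact (Nat.Prime 3) := ⟨Nat.prime_three⟩
  obtain ⟨x, hx⟩ := exists_prime_orderOf_dvd_card' (G := G) 3 (by rw [hN]; norm_num)
  have hqp : q.Prime ∧ 3 ≠ q ∧ q ∣ 4154781481226426191177580544000000 := by
    simp only [List.mem_cons, List.not_mem_nil, or_false] at hq
    rcases hq with rfl | rfl | rfl | rfl | rfl <;> norm_num
  exact nc_of_elem hqp.1 hqp.2.1 (by rw [hN]; exact hqp.2.2) hx fun y hy => H979.OddB.nadj3 h hq hx hy

/-- the pairs `(7, q)` -/
theorem nc_seven (h : Spor.IsoB G) {q : ℕ} (hq : q ∈ [11, 13, 19, 23, 31, 47]) : NC 7 q G := by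
  have hN := NotCT.Orders.b h
  have h7 : Fact (Nat.Prime 7) := ⟨by norm_num⟩
  obtain ⟨x, hx⟩ := exists_prime_orderOf_dvd_card' (G := G) 7 (by rw [hN]; norm_num)
  have hqp : q.Prime ∧ 7 ≠ q ∧ q ∣ 4154781481226426191177580544000000 := by
    simp only [List.mem_cons, List.not_mem_nil, or_false] at hq
    rcases hq with rfl | rfl | rfl | rfl | rfl | rfl <;> norm_num
  exact nc_of_elem hqp.1 hqp.2.1 (by rw [hN]; exact hqp.2.2) hx fun y hy => H979.OddB.nadj7 h hq hx hy

/-- the pairs `(11, q)` -/
theorem nc_eleven (h : Spor.IsoB G) {q : ℕ} (hq : q ∈ [17, 19, 23]) : NC 11 q G := by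
  have hN := NotCT.Orders.b h
  have hqp : q.Prime ∧ 11 ≠ q ∧ 5 ≠ q ∧ q ∣ 4154781481226426191177580544000000 ∧
      ¬ q ^ 2 ∣ 4154781481226426191177580544000000 ∧ ¬ 5 ∣ q - 1 := by
    simp only [List.mem_cons, List.not_mem_nil, or_false] at hq
    rcases hq with rfl | rfl | rfl <;> norm_num
  obtain ⟨h1, h2, h3, h4, h5, h6⟩ := hqp
  exact nc_of_frk (by norm_num) (by norm_num) h1 h3 h2 (frk_5_11 h) h6 (by rw [hN]; exact h5) (by rw [hN]; exact h4)
    fun b w hb hw => strong_five h hq hb hw

/-- the pair `(13, 17)` -/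
theorem nc_13_17 (h : Spor.IsoB G) : NC 13 17 G := by
  have hN := NotCT.Orders.b h
  exact nc_of_frk (by norm_num) (by norm_num) (by norm_num) (by norm_num) (by norm_num) (frk_3_13 h) (by norm_num)
    (by rw [hN]; norm_num) (by rw [hN]; norm_num) fun b w hb hw => H979.OddB.nadj3 h (by simp) hb hw

/-- the pair `(19, 17)` -/
theorem nc_19_17 (h : Spor.IsoB G) : NC 19 17 G := by
  have hN := NotCT.Orders.b h
  exact nc_of_frk (by norm_num) (by norm_num) (by norm_num) (by norm_num) (by norm_num) (frk_3_19 h) (by norm_num)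
    (by rw [hN]; norm_num) (by rw [hN]; norm_num) fun b w hb hw => H979.OddB.nadj3 h (by simp) hb hw

/-- the pair `(19, 23)` -/
theorem nc_19_23 (h : Spor.IsoB G) : NC 19 23 G := by
  have hN := NotCT.Orders.b h
  exact nc_of_frk (by norm_num) (by norm_num) (by norm_num) (by norm_num) (by norm_num) (frk_3_19 h) (by norm_num)
    (by rw [hN]; norm_num) (by rw [hN]; norm_num) fun b w hb hw => H979.OddB.nadj3 h (by simp) hb hw

end

/-- **The row of the Baby Monster.** -/
theorem row_b {G : Type*} [Group G] [Finite G] [IsSimpleGroup G] (h : Spor.IsoB G) : Row G := by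
  have hN := NotCT.Orders.b h
  refine row_of (N := 4154781481226426191177580544000000) (k := 41) hN [3, 5, 7, 11, 13, 17, 19, 23, 31, 47] [3, 5]
    [31, 47] 7 [(7, 11), (7, 13), (7, 19), (7, 23), (11, 17), (11, 19), (11, 23), (13, 17), (19, 17), (19, 23)]
    ?_ ?_ ?_ ?_ ?_ ?_ ?_ ?_
  · simp only [List.forall_mem_cons]; norm_num
  · decide +kernel
  · decide +kernel
  · exact ab_of_not_cube (by norm_num) (by rw [hN]; norm_num)
  · intro p hp q hq hpq
    simp only [List.mem_cons, List.not_mem_nil, or_false] at hp hq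
    rcases hp with rfl | rfl
    · rcases hq with rfl | rfl | rfl | rfl | rfl | rfl | rfl | rfl | rfl | rfl
      · exact absurd rfl hpq
      · exact (nc_five h (by simp)).symm
      · exact nc_3_7 h
      · exact nc_3_11 h
      · exact nc_3_13 h
      all_goals exact nc_3_big h (by simp)
    · rcases hq with rfl | rfl | rfl | rfl | rfl | rfl | rfl | rfl | rfl | rfl
      · exact nc_five h (by simp)
      · exact absurd rfl hpq
      · exact nc_five h (by simp)
      · exact (frk_5_11 h).nc (by norm_num) (by norm_num)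
      all_goals exact nc_five h (by simp)
  · intro r hr
    simp only [List.mem_cons, List.not_mem_nil, or_false] at hr
    rcases hr with rfl | rfl
    · exact solv_of_na (by norm_num) (by rw [hN]; norm_num)
        (H149.Sp.na_b_all h (by norm_num) (by norm_num) (by norm_num) (by norm_num))
    · exact solv_of_na (by norm_num) (by rw [hN]; norm_num)
        (H149.Sp.na_b_all h (by norm_num) (by norm_num) (by norm_num) (by norm_num))
  · intro a ha
    simp only [List.mem_cons, List.not_mem_nil, or_false] at ha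
    rcases ha with rfl | rfl | rfl | rfl | rfl | rfl | rfl | rfl | rfl | rfl
    · exact nc_seven h (by simp)
    · exact nc_seven h (by simp)
    · exact nc_seven h (by simp)
    · exact nc_seven h (by simp)
    · exact nc_eleven h (by simp)
    · exact nc_eleven h (by simp)
    · exact nc_eleven h (by simp)
    · exact nc_13_17 h
    · exact nc_19_17 h
    · exact nc_19_23 h
  · decide

end Cfsg.Agent.H630.Baby
end

-- part: H954/DR/CentB
section
set_option linter.all false
open scoped Cfsg.Agent.FastGrp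

/-!
# The centralizers of the elements of order 47 in the Baby Monster (helper954, for S4899)

* `strong_five47` : elements of orders 5 and 47 do not commute (the argument of helper630);
* `cent47` : `|C(x)| = 47` for `x` of order 47.
-/

set_option autoImplicit false
set_option maxRecDepth 100000

namespace Cfsg.Agent.H954.DR.CentB

open Cfsg Subgroup
open Cfsg.Agent.H979.BAdj Cfsg.Agent.H979.CovLift Cfsg.Agent.H979.OddB
open Cfsg.Agent.H630.NH Cfsg.Agent.H241.NH Cfsg.Agent.H630.Baby

universe u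

variable {L : Type u} [Group L] [Finite L]

/-- **Elements of orders 5 and 47 do not commute.** -/
theorem strong_five47 (h : Spor.IsoB L) {x y : L} (hx : orderOf x = 5) (hy : orderOf y = 47) : x * y ≠ y * x := by
  have hN := NotCT.Orders.b h
  have hk : ∀ k, k ≠ 0 → k ≤ 6 → ¬ 47 ∣ 5 ^ k - 1 := by
    intro k hk0 hk6
    interval_cases k <;> first | exact absurd rfl hk0 | norm_num
  have : Fact (Nat.Prime 5) := ⟨Nat.prime_five⟩
  have : Fact (Nat.Prime 47) := ⟨by norm_num⟩
  obtain ⟨y0, hy0, c, hc, hcd⟩ := exists_five h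
  have hn0 : ¬ 47 ∣ Nat.card ↥(centralizer ({y0} : Set L)) := by
    intro hd
    rcases hc with rfl | rfl
    · exact absurd (hd.trans hcd) (by norm_num)
    · exact absurd (hd.trans hcd) (by norm_num)
  intro hxy
  refine H296.OneElt.not_comm (p := 5) (l := 47) (by norm_num) (by rw [hN]; norm_num) ?_ (y0 := y0)
    ⟨1, by rw [pow_one, ← hy0, pow_orderOf_eq_one]⟩ hn0 hy hx hxy.symm
  intro x y hx hy hxy
  by_cases ho : Odd (Nat.card ↥(centralizer ({y} : Set L)))
  · refine H377.SporB.inCore_of_solvable (by norm_num) (fun k hk0 hd => hk k hk0 ?_) hx hxy (Cfsg.Agent.S0205.result ho)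
    by_contra hc
    have h1 : 5 ^ 7 ∣ Nat.card L := (pow_dvd_pow 5 (by omega)).trans hd
    rw [hN] at h1
    norm_num at h1
  · exfalso
    rw [Nat.not_odd_iff_even, even_iff_two_dvd] at ho
    have : Fact (Nat.Prime 2) := ⟨Nat.prime_two⟩
    obtain ⟨w, hw⟩ := exists_prime_orderOf_dvd_card' (G := ↥(centralizer ({y} : Set L))) 2 ho
    exact five_comm h (by simp) (w := (w : L)) hy hx (by rw [Subgroup.orderOf_coe, hw])
      (mem_centralizer_singleton_iff.1 w.2).symm hxy.symm

section arith

variable {G : Type*} [Group G] [Finite G]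

theorem relIndex_dvd {r : ℕ} (hr : r.Prime) (P : Subgroup G) (hP : Nat.card P = r) :
    (centralizer (P : Set G)).relIndex (normalizer (P : Set G)) ∣ r - 1 := by
  have : Fact r.Prime := ⟨hr⟩
  have hc : IsCyclic P := isCyclic_of_prime_card hP
  have h1 := Subgroup.normalizerMonoidHom_ker P
  have h2 : (P.normalizerMonoidHom).ker.index ∣ Nat.card (MulAut P) := by
    rw [Subgroup.index_ker]
    exact Subgroup.card_subgroup_dvd_card _
  rw [h1, IsCyclic.card_mulAut, hP, Nat.totient_prime hr] at h2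
  exact h2

/-- Sylow arithmetic. -/
theorem arith {p : ℕ} (hp : p.Prime) (h2 : ¬ p ^ 2 ∣ Nat.card G) {x : G} (hx : orderOf x = p) :
    ∃ e, e ∣ p - 1 ∧ Nat.card (centralizer ({x} : Set G)) * e =
      Nat.card (normalizer ((zpowers x : Subgroup G) : Set G)) ∧
      Nat.card G / (Nat.card (centralizer ({x} : Set G)) * e) % p = 1 % p := by
  have : Fact p.Prime := ⟨hp⟩
  have hidx : ¬ p ∣ (zpowers x).index := by
    intro h
    apply h2
    rw [← (zpowers x).card_mul_index, Nat.card_zpowers, hx, pow_two]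
    exact Nat.mul_dvd_mul_left p h
  have hpg : IsPGroup p (zpowers x) := IsPGroup.of_card (n := 1) (by rw [Nat.card_zpowers, hx, pow_one])
  let P : Sylow p G := hpg.toSylow hidx
  have hPx : (P : Subgroup G) = zpowers x := rfl
  have h1 := card_sylow_modEq_one p G
  rw [Sylow.card_eq_index_normalizer P] at h1
  change (normalizer (zpowers x : Set G)).index % p = 1 % p at h1
  have hCx : centralizer ({x} : Set G) = centralizer (zpowers x : Set G) := by
    rw [zpowers_eq_closure, centralizer_closure]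
  have h2 := relIndex_dvd hp (zpowers x) (by rw [Nat.card_zpowers, hx])
  have hle : centralizer (zpowers x : Set G) ≤ normalizer (zpowers x : Set G) := centralizer_le_normalizer _
  have h3 := Subgroup.relIndex_mul_relIndex ⊥ (centralizer (zpowers x : Set G)) (normalizer (zpowers x : Set G)) bot_le hle
  rw [relIndex_bot_left, relIndex_bot_left] at h3
  refine ⟨_, h2, ?_, ?_⟩
  · rw [hCx, h3]
  · rw [hCx, h3, ← (normalizer (zpowers x : Set G)).card_mul_index, Nat.mul_div_cancel_left _ Nat.card_pos]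
    exact h1

end arith

/-- the order of the Baby Monster -/
abbrev NB : ℕ := 4154781481226426191177580544000000

/-- the numbers -/
theorem numbers {c e : ℕ} (h47 : 47 ∣ c) (h2 : ¬ 2 ∣ c) (h3 : ¬ 3 ∣ c) (h5 : ¬ 5 ∣ c) (h7 : ¬ 7 ∣ c)
    (h31 : ¬ 31 ∣ c) (he : e ∣ 46) (he1 : e ≠ 1) (hd : c ∣ NB) (hm0 : c * e ∣ NB) (h : NB / (c * e) % 47 = 1) :
    c = 47 ∨ c = 47 * (11 * (13 * (17 * 19))) := by
  have e1 : NB = 2 ^ 41 * (3 ^ 13 * (5 ^ 6 * (7 ^ 2 * (31 ^ 1 * (47 * (11 * (13 * (17 * (19 * 23))))))))) := by norm_num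
  have hc1 : c ∣ 47 * (11 * (13 * (17 * (19 * 23)))) := by
    rw [e1] at hd
    have k : ∀ {p j : ℕ}, p.Prime → ¬ p ∣ c → Nat.Coprime c (p ^ j) := fun {p j} hp hpc =>
      (Nat.Coprime.pow_left j ((Nat.Prime.coprime_iff_not_dvd hp).2 hpc)).symm
    have g1 := (k (j := 41) (by norm_num) h2).dvd_of_dvd_mul_left hd
    have g2 := (k (j := 13) (by norm_num) h3).dvd_of_dvd_mul_left g1
    have g3 := (k (j := 6) (by norm_num) h5).dvd_of_dvd_mul_left g2
    have g4 := (k (j := 2) (by norm_num) h7).dvd_of_dvd_mul_left g3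
    exact (k (j := 1) (by norm_num) h31).dvd_of_dvd_mul_left g4
  obtain ⟨m, rfl⟩ := h47
  have hm := Nat.dvd_of_mul_dvd_mul_left (by norm_num) hc1
  obtain ⟨a, b', ha, hb', rfl⟩ := Nat.dvd_mul.1 hm
  obtain ⟨b, c', hb, hc', rfl⟩ := Nat.dvd_mul.1 hb'
  obtain ⟨c, d', hc, hd', rfl⟩ := Nat.dvd_mul.1 hc'
  obtain ⟨d, f, hdd, hf, rfl⟩ := Nat.dvd_mul.1 hd'
  have key1 : ∀ {p x : ℕ}, p.Prime → x ∣ p → x ∈ ([1, p] : List ℕ) := by
    intro p x hp hx
    rcases (Nat.dvd_prime hp).1 hx with rfl | rfl <;> simp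
  have ka := key1 (by norm_num) ha
  have kb := key1 (by norm_num) hb
  have kc := key1 (by norm_num) hc
  have kd := key1 (by norm_num) hdd
  have kf := key1 (by norm_num) hf
  have ke : e ∈ ([2, 23, 46] : List ℕ) := by
    have h1 : e ≤ 46 := Nat.le_of_dvd (by norm_num) he
    have h2 : ∀ f < 47, f ∣ 46 → f ≠ 1 → f ∈ ([2, 23, 46] : List ℕ) := by decide +kernel
    exact h2 e (by omega) he he1
  have key : ∀ a ∈ ([1, 11] : List ℕ), ∀ b ∈ ([1, 13] : List ℕ), ∀ c ∈ ([1, 17] : List ℕ), ∀ d ∈ ([1, 19] : List ℕ),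
      ∀ f ∈ ([1, 23] : List ℕ), ∀ e ∈ ([2, 23, 46] : List ℕ),
      NB % (47 * (a * (b * (c * (d * f)))) * e) = 0 → NB / (47 * (a * (b * (c * (d * f)))) * e) % 47 = 1 → 47 * (a * (b * (c * (d * f)))) = 47 ∨
        47 * (a * (b * (c * (d * f)))) = 47 * (11 * (13 * (17 * 19))) := by
    decide +kernel
  exact key a ka b kb c kc d kd f kf e ke (Nat.mod_eq_zero_of_dvd hm0) h

/-- elements of orders 11 and 17 do not commute -/
theorem not_comm_11_17 (h : Spor.IsoB L) {u v : L} (hu : orderOf u = 11) (hv : orderOf v = 17) : u * v ≠ v * u := by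
  intro huv
  have hN := NotCT.Orders.b h
  obtain ⟨a, y, ha, hy, ⟨m, hm⟩, hne⟩ := frk_5_11 h
  have key := no_comm_of_frattini (a := 1) (p := 5) (r := 17) (by norm_num) (by norm_num) (by norm_num) ha hm hne
    (fun i h1 h2 => by
      obtain rfl : i = 1 := by omega
      norm_num) (by rw [hN]; norm_num) (fun b w hb hw => strong_five h (by simp) hb hw)
  obtain ⟨g, hg⟩ := Cfsg.Agent.H149.Sp.Eng.exists_conj (by norm_num : (11 : ℕ).Prime) (by rw [hN]; norm_num) hy hu
  obtain ⟨n, hn⟩ := mem_zpowers_iff.1 hg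
  refine key (g * v * g⁻¹) (by rw [← hv]; exact MulEquiv.orderOf_eq (MulAut.conj g) v) ?_
  have h1 : Commute (g * v * g⁻¹) (g * u * g⁻¹) := by
    show g * v * g⁻¹ * (g * u * g⁻¹) = g * u * g⁻¹ * (g * v * g⁻¹)
    calc g * v * g⁻¹ * (g * u * g⁻¹) = g * (v * u) * g⁻¹ := by group
      _ = g * (u * v) * g⁻¹ := by rw [huv]
      _ = _ := by group
  rw [← hn]
  exact (h1.zpow_right n).eq

/-- **`|C(x)| = 47` for `x` of order 47 in the Baby Monster.** -/
theorem cent47 (h : Spor.IsoB L) [IsSimpleGroup L] {x : L} (hx : orderOf x = 47) :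
    Nat.card (centralizer ({x} : Set L)) = 47 := by
  have hN : Nat.card L = NB := NotCT.Orders.b h
  have h47 : Fact (Nat.Prime 47) := ⟨by norm_num⟩
  have hsq : ¬ 47 ^ 2 ∣ Nat.card L := by rw [hN]; norm_num
  obtain ⟨e, he, hne, h1⟩ := arith (by norm_num : Nat.Prime 47) hsq hx
  have c47 : 47 ∣ Nat.card (centralizer ({x} : Set L)) := by
    rw [← hx, ← Subgroup.orderOf_mk x (mem_centralizer_singleton_iff.2 rfl : x ∈ centralizer ({x} : Set L))]
    exact orderOf_dvd_natCard _
  have nd : ∀ q : ℕ, q.Prime → (∀ y : L, orderOf y = q → y * x ≠ x * y) →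
      ¬ q ∣ Nat.card (centralizer ({x} : Set L)) := by
    intro q hq h2 h3
    have : Fact q.Prime := ⟨hq⟩
    obtain ⟨y, hy⟩ := exists_prime_orderOf_dvd_card' q h3
    exact h2 (y : L) (by rw [Subgroup.orderOf_coe, hy]) (mem_centralizer_singleton_iff.1 y.2)
  have n2 := nd 2 Nat.prime_two fun y hy h0 => H149.Sp.na_b_all h (p := 47) (by norm_num) (by norm_num) (by norm_num)
    (by norm_num) x y hx hy h0.symm
  have n3 := nd 3 Nat.prime_three fun y hy => nadj3 h (by simp) hy hx
  have n5 := nd 5 Nat.prime_five fun y hy => strong_five47 h hy hx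
  have n7 := nd 7 (by norm_num) fun y hy => nadj7 h (by simp) hy hx
  have n31 : ¬ 31 ∣ Nat.card (centralizer ({x} : Set L)) := by
    refine nd 31 (by norm_num) fun y hy h0 => ?_
    exact h.elim fun f => H149.Sp.not_adj_b ((Cfsg.Agent.H163.PG.adj_congr f).1
      (Cfsg.Agent.H163.PG.adj_of_commute (by norm_num) (by norm_num) (by norm_num) hy hx h0))
  have hidx : ¬ 47 ∣ (zpowers x).index := by
    intro h
    apply hsq
    rw [← (zpowers x).card_mul_index, Nat.card_zpowers, hx, pow_two]
    exact Nat.mul_dvd_mul_left 47 h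
  have he1 : e ≠ 1 := by
    rintro rfl
    rw [mul_one] at hne
    have hpg : IsPGroup 47 (zpowers x) := IsPGroup.of_card (n := 1) (by rw [Nat.card_zpowers, hx, pow_one])
    let P : Sylow 47 L := hpg.toSylow hidx
    have hPx : (P : Subgroup L) = zpowers x := rfl
    have hCx : centralizer ({x} : Set L) = centralizer (zpowers x : Set L) := by
      rw [zpowers_eq_closure, centralizer_closure]
    have hle : centralizer (zpowers x : Set L) ≤ normalizer (zpowers x : Set L) := centralizer_le_normalizer _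
    have heq : centralizer (zpowers x : Set L) = normalizer (zpowers x : Set L) :=
      Subgroup.eq_of_le_of_card_ge hle (by rw [← hne, hCx])
    refine H214.Coset.burnside (N := L) ?_ P (by rw [hN]; norm_num) (by rw [hPx, heq])
    intro hcomm
    have h5 : (Nat.card L).Prime := by
      let _ : CommGroup L := { (inferInstance : Group L) with mul_comm := fun a b => hcomm.is_comm.comm a b }
      exact IsSimpleGroup.prime_card
    rw [hN] at h5
    norm_num at h5
  have hdvd : Nat.card (centralizer ({x} : Set L)) ∣ NB := by rw [← hN]; exact card_subgroup_dvd_card _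
  rcases numbers c47 n2 n3 n5 n7 n31 he he1 hdvd (by rw [hne, ← hN]; exact card_subgroup_dvd_card _)
    (by rw [← hN]; exact h1) with h6 | h6
  · exact h6
  · exfalso
    have hcyc : IsCyclic (centralizer ({x} : Set L)) := by
      refine Cfsg.Agent.H94.PG.Sp.isCyclic_of_card ?_ ?_
      · rw [h6]
        rw [Nat.squarefree_mul (by norm_num), Nat.squarefree_mul (by norm_num), Nat.squarefree_mul (by norm_num),
          Nat.squarefree_mul (by norm_num)]
        exact ⟨(by norm_num : Nat.Prime 47).squarefree, (by norm_num : Nat.Prime 11).squarefree,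
          (by norm_num : Nat.Prime 13).squarefree, (by norm_num : Nat.Prime 17).squarefree,
          (by norm_num : Nat.Prime 19).squarefree⟩
      · rw [h6]
        rw [Nat.totient_mul (by norm_num), Nat.totient_mul (by norm_num), Nat.totient_mul (by norm_num),
          Nat.totient_mul (by norm_num), Nat.totient_prime (by norm_num), Nat.totient_prime (by norm_num),
          Nat.totient_prime (by norm_num), Nat.totient_prime (by norm_num), Nat.totient_prime (by norm_num)]
        norm_num
    have f11 : Fact (Nat.Prime 11) := ⟨by norm_num⟩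
    have f17 : Fact (Nat.Prime 17) := ⟨by norm_num⟩
    obtain ⟨u, hu⟩ := exists_prime_orderOf_dvd_card' (G := centralizer ({x} : Set L)) 11 (by rw [h6]; norm_num)
    obtain ⟨v, hv⟩ := exists_prime_orderOf_dvd_card' (G := centralizer ({x} : Set L)) 17 (by rw [h6]; norm_num)
    have huv : u * v = v * u := by
      have := hcyc.commGroup.mul_comm u v
      exact this
    exact not_comm_11_17 h (by rw [Subgroup.orderOf_coe, hu]) (by rw [Subgroup.orderOf_coe, hv])
      (congrArg Subtype.val huv)

end Cfsg.Agent.H954.DR.CentB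
end
end
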